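import Cfsg.Agent.Mrg.Omega.FFTwoA.Glue
import Cfsg.Agent.Omega.FFTwoA.BOne
import Cfsg.Agent.ZN.Block
import Cfsg.Agent.ZN.Map
import Cfsg.Agent.Involutions.BaerSuzuki

section


/-!
# FF-2a (7): the two cases `C(d) ≤ C(z)` and `C(d) ≰ C(z)`, abstract form
-/

set_option autoImplicit false

namespace Cfsg.Agent.Omega.FFTwoA.Cases

open Cfsg.Agent.Omega.FFTwoA.Main Cfsg.Agent.Omega.FFTwoA.Four Cfsg.Agent.Omega.FFTwoA.Line
open Cfsg.Agent.Omega.FFTwoA.BTwo Cfsg.Agent.Omega.FFTwoA.Glue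

universe u

variable {G : Type u} [Group G] {O : G → Subgroup G} {z a d : G}

theorem lin_conj (h : Lin O z a d) {m : G} (hm : m * z = z * m) : Lin O z (m * a * m⁻¹) d := by
  have h1 := h.conj m
  have e1 : MulAut.conj m z = z := by
    rw [MulAut.conj_apply, hm, mul_assoc, mul_inv_cancel, mul_one]
  rw [e1] at h1
  exact h1.change h.dD h.d1 h.dz

/-- the non-orthogonality hypothesis passes to conjugates -/
theorem hna_conj {m : G} (hm : m * z = z * m)
    (hna : ∃ m, m * z = z * m ∧ ¬ m * a * m⁻¹ * a = a * (m * a * m⁻¹)) :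
    ¬ ∀ k, k * z = z * k → k * (m * a * m⁻¹) * k⁻¹ * (m * a * m⁻¹) =
      m * a * m⁻¹ * (k * (m * a * m⁻¹) * k⁻¹) := by
  intro hcon
  obtain ⟨n, hn, hnn⟩ := hna
  apply hnn
  have hmi : m⁻¹ * z = z * m⁻¹ := by
    rw [inv_mul_eq_iff_eq_mul, ← mul_assoc, hm, mul_assoc, mul_inv_cancel, mul_one]
  have hk : m * n * m⁻¹ * z = z * (m * n * m⁻¹) := by
    calc m * n * m⁻¹ * z = m * n * (m⁻¹ * z) := by group
      _ = m * (n * z) * m⁻¹ := by rw [hmi]; group
      _ = m * z * n * m⁻¹ := by rw [hn]; group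
      _ = z * (m * n * m⁻¹) := by rw [hm]; group
  have := hcon _ hk
  have e1 : m * n * m⁻¹ * (m * a * m⁻¹) * (m * n * m⁻¹)⁻¹ * (m * a * m⁻¹) =
      m * (n * a * n⁻¹ * a) * m⁻¹ := by group
  have e2 : m * a * m⁻¹ * (m * n * m⁻¹ * (m * a * m⁻¹) * (m * n * m⁻¹)⁻¹) =
      m * (a * (n * a * n⁻¹)) * m⁻¹ := by group
  rw [e1, e2] at this
  exact mul_left_cancel (mul_right_cancel this)

/-- every non-central element of `D_a` is conjugate to `d` by an element carrying `z` to `a` -/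
theorem conj_d (h : Lin O z a d) {e : G} (he : Dp O a e) (h1 : e ≠ 1) (h2 : e ≠ a) :
    ∃ n, n * z * n⁻¹ = a ∧ n * d * n⁻¹ = e := by
  obtain ⟨n, hn, hn2⟩ := h.rot
  have hl := h.symm he h1 h2
  have hD : Dp O a (n * d * n⁻¹) := by
    have := (h.eqv.dp_iff n z d).2 h.dD
    rwa [MulAut.conj_apply, MulAut.conj_apply, hn] at this
  obtain ⟨u, hu, huz, hud⟩ := h.exd
  have huz' : u * z * u⁻¹ = z := by rw [huz]; group
  have hud' : u * d * u⁻¹ = z * d := by rw [hud]; group
  rcases hl.four _ hD with k | k | k | k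
  · exfalso
    apply h.d1
    have : n * d * n⁻¹ = n * 1 * n⁻¹ := by rw [k]; group
    exact mul_left_cancel (mul_right_cancel this)
  · exfalso
    apply h.dz
    rw [← hn] at k
    exact mul_left_cancel (mul_right_cancel k)
  · exact ⟨n, hn, k⟩
  · refine ⟨n * u, ?_, ?_⟩
    · calc n * u * z * (n * u)⁻¹ = n * (u * z * u⁻¹) * n⁻¹ := by group
        _ = a := by rw [huz', hn]
    · calc n * u * d * (n * u)⁻¹ = n * (u * d * u⁻¹) * n⁻¹ := by group
        _ = (n * z * n⁻¹) * (n * d * n⁻¹) := by rw [hud']; group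
        _ = e := by rw [hn, k, ← mul_assoc, h.aa, one_mul]

/-- **(b1)** -/
theorem b_one_false [Finite G] (h : Lin O z a d)
    (hna : ∃ m, m * z = z * m ∧ ¬ m * a * m⁻¹ * a = a * (m * a * m⁻¹))
    (hb : ∀ x, x * d = d * x → x * z = z * x) : False := by
  obtain ⟨w, hw, hwa, _, _⟩ := h.w0
  have hwa' : ¬ w * a = a * w := by
    intro k
    rw [MulAut.conj_apply, k, mul_assoc, mul_inv_cancel, mul_one] at hwa
    exact h.z1 (by simpa using hwa.symm)
  obtain ⟨e, he, h1, h2⟩ := h.exD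
  have hd := h.exDat hw.1 hwa' he h1 h2
  set d3 := w * e * w⁻¹ with hd3
  set s := e * d3 with hs
  obtain ⟨n, hn, hnd⟩ := conj_d h he h1 h2
  obtain ⟨u, hu, huz, hu3, hus⟩ := hd.exu0
  have rcv : ∀ x, LH z a s x →
      (BOne.R z x 1 ∨ BOne.R z x a ∨ BOne.R z x s ∨ BOne.R z x (a * s)) := by
    intro x hx
    unfold BOne.R
    rcases hx with (k | k | k | k) | (k | k | k | k)
    · left; left; exact k
    · left; right; rw [mul_one]; exact k
    · right; left; left; exact k
    · right; left; right; exact k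
    · right; right; left; left; exact k
    · right; right; left; right; exact k
    · right; right; right; left; exact k
    · right; right; right; right; rw [← mul_assoc]; exact k
  have ef : ∀ m, NS O z e m → m * a * m⁻¹ = a ∨ m * a * m⁻¹ = z * a := by
    intro m hm
    refine BOne.b_one h.toCfg (d2 := e) (d3 := d3) (w := w) (s := s) (u0 := u) he hd.d2q hd.dp3
      hd.d3q hw.1 hwa rfl ?_ rfl hd.sO hd.snO hd.f2 hd.f3 hu huz ?_ ?_ ?_ hm.1 hm.2
    · rw [hd.wd3]; group
    · rw [hu3]; group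
    · intro g x hx
      have hx' : (n⁻¹ * g⁻¹ * x * g * n) * d = d * (n⁻¹ * g⁻¹ * x * g * n) := by
        rw [← hnd] at hx
        calc (n⁻¹ * g⁻¹ * x * g * n) * d
            = n⁻¹ * g⁻¹ * (x * (g * (n * d * n⁻¹) * g⁻¹)) * g * n := by group
          _ = d * (n⁻¹ * g⁻¹ * x * g * n) := by rw [hx]; group
      have hz' := hb _ hx'
      rw [← hn]
      calc x * (g * (n * z * n⁻¹) * g⁻¹)
          = g * n * ((n⁻¹ * g⁻¹ * x * g * n) * z) * n⁻¹ * g⁻¹ := by group
        _ = g * (n * z * n⁻¹) * g⁻¹ * x := by rw [hz']; group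
    · intro k hk hk2
      have := hl hd ⟨hk, hk2⟩
      exact ⟨rcv _ this.1, rcv _ this.2⟩
  obtain ⟨m, hm, hmn⟩ := hna
  exact hmn (orth hd ef m hm)

/-- **(b2)** -/
theorem b_two_comm [Finite G] (h : Lin O z a d)
    (hna : ∃ m, m * z = z * m ∧ ¬ m * a * m⁻¹ * a = a * (m * a * m⁻¹))
    (VC : Subgroup G) (hVab : ∀ x ∈ VC, ∀ y ∈ VC, x * y = y * x)
    (hVn : ∀ c, c * d = d * c → ∀ x ∈ VC, c * x * c⁻¹ ∈ VC) (hVz : z ∈ VC) (hVO : VC ≤ O z)
    {v : G} (hv : v ∈ VC) {m : G} (hm : m * z = z * m) :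
    v * (m * a * m⁻¹) = m * a * m⁻¹ * v := by
  by_contra hcon
  have h' := lin_conj h hm
  obtain ⟨e, he, h1, h2⟩ := h'.exD
  have hd := h'.exDat (hVO hv) hcon he h1 h2
  exact hna_conj hm hna (orth hd fun k hk => ef_two hd VC hVab hVn hVz hv hk)

end Cfsg.Agent.Omega.FFTwoA.Cases

end

section


/-!
# FF-2a: facts on `O v = O₂(C_G(v))`
-/

set_option autoImplicit false

namespace Cfsg.Agent.Omega.FFTwoA.OTwo

open Subgroup Cfsg.Agent.ZN Cfsg.Agent.ZN.Block
open Cfsg.Agent.Omega.FFTwoA.Main Cfsg.Agent.Omega.FFTwoA.Four Cfsg.Agent.Omega.FFTwoA.Line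

universe u

variable {G : Type u} [Group G] {z a d : G}

/-- `O v = O₂(C_G(v))`. -/
def OO (v : G) : Subgroup G := o2 (centralizer ({v} : Set G))

/-- `O₂(C(v))` contains its centraliser in `C(v)`, for all involutions `v` -/
def Ch (G : Type u) [Group G] : Prop :=
  ∀ v : G, v * v = 1 → v ≠ 1 → ∀ x, x * v = v * x → (∀ q ∈ OO v, x * q = q * x) → x ∈ OO v

theorem mem_c {v x : G} : x ∈ centralizer ({v} : Set G) ↔ x * v = v * x :=
  mem_centralizer_singleton_iff

theorem inv_comm {v g : G} (hg : g * v = v * g) : g⁻¹ * v = v * g⁻¹ := by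
  rw [inv_mul_eq_iff_eq_mul, ← mul_assoc, hg, mul_assoc, mul_inv_cancel, mul_one]

theorem mul_comm' {v g g' : G} (hg : g * v = v * g) (hg' : g' * v = v * g') :
    g * g' * v = v * (g * g') := by
  rw [mul_assoc, hg', ← mul_assoc, hg, mul_assoc]

/-- normal 2-subgroups of `C(v)` lie in `OO v` -/
theorem le_oo {v : G} {K : Subgroup G} (hK : IsPGroup 2 K) (hKL : ∀ x ∈ K, x * v = v * x)
    (hn : ∀ g, g * v = v * g → ∀ x ∈ K, g * x * g⁻¹ ∈ K) : K ≤ OO v := by
  refine Block.le_o2 hK (fun x hx => mem_c.2 (hKL x hx)) ?_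
  exact le_normalizer_of_forall fun l hl m hm => hn l (mem_c.1 hl) m hm

theorem isP (v : G) : IsPGroup 2 (OO v) := Block.o2_isPGroup _

theorem oo_comm {v x : G} (hx : x ∈ OO v) : x * v = v * x := mem_c.1 (Block.o2_le _ hx)

theorem oo_conj {v g x : G} (hg : g * v = v * g) (hx : x ∈ OO v) : g * x * g⁻¹ ∈ OO v :=
  Block.o2_conj (mem_c.2 hg) hx

/-- a normal subset of `C(v)` closed under products whose elements have 2-power order -/
theorem mem_of_set {v : G} {K : Set G} (h1 : (1 : G) ∈ K) (hm : ∀ x ∈ K, ∀ y ∈ K, x * y ∈ K)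
    (hi : ∀ x ∈ K, x⁻¹ ∈ K) (hp : ∀ x ∈ K, ∃ k : ℕ, x ^ 2 ^ k = 1)
    (hc : ∀ x ∈ K, x * v = v * x) (hn : ∀ g, g * v = v * g → ∀ x ∈ K, g * x * g⁻¹ ∈ K)
    {x : G} (hx : x ∈ K) : x ∈ OO v := by
  let L : Subgroup G :=
    { carrier := K, mul_mem' := fun {x y} hx hy => hm x hx y hy, one_mem' := h1,
      inv_mem' := fun {x} hx => hi x hx }
  refine le_oo (K := L) ?_ hc hn hx
  rintro ⟨y, hy⟩
  obtain ⟨k, hk⟩ := hp y hy
  exact ⟨k, Subtype.ext hk⟩

theorem pow_of_mem {v x : G} (hx : x ∈ OO v) : ∃ k : ℕ, x ^ 2 ^ k = 1 := by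
  obtain ⟨k, hk⟩ := isP v ⟨x, hx⟩
  exact ⟨k, congrArg Subtype.val hk⟩

theorem self_mem {v : G} (hv : v * v = 1) : v ∈ OO v := by
  refine mem_of_set (K := {x | x = 1 ∨ x = v}) (Or.inl rfl) ?_ ?_ ?_ ?_ ?_ (Or.inr rfl)
  · rintro x (rfl | rfl) y (rfl | rfl)
    · left; simp
    · right; simp
    · right; simp
    · left; exact hv
  · rintro x (rfl | rfl)
    · left; simp
    · right; exact inv_eq_of_mul_eq_one_left hv
  · rintro x (rfl | rfl)
    · exact ⟨0, by simp⟩
    · exact ⟨1, by rw [pow_one, pow_two]; exact hv⟩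
  · rintro x (rfl | rfl)
    · simp
    · rfl
  · rintro g hg x (rfl | rfl)
    · left; group
    · right; rw [hg]; group

/-- `hC` -/
theorem hC (h : Cfg OO z a) (hch : Ch G) :
    ∀ s, s * z = z * s → (∀ q ∈ OO z, q * s * q⁻¹ * s⁻¹ = 1 ∨ q * s * q⁻¹ * s⁻¹ = z) →
      s ∈ OO z := by
  intro s hs hq
  have hzz := h.zz
  -- `q s = s q` or `q s = z s q`
  have eqv : ∀ s q : G, (q * s * q⁻¹ * s⁻¹ = 1 ∨ q * s * q⁻¹ * s⁻¹ = z) ↔
      (q * s = s * q ∨ q * s = z * s * q) := by
    intro s q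
    rw [mul_inv_eq_iff_eq_mul, mul_inv_eq_iff_eq_mul, mul_inv_eq_iff_eq_mul,
      mul_inv_eq_iff_eq_mul, one_mul]
  refine mem_of_set (K := {s | s * z = z * s ∧ ∀ q ∈ OO z, q * s = s * q ∨ q * s = z * s * q})
    ?_ ?_ ?_ ?_ ?_ ?_ ?_
  · exact ⟨by simp, fun q _ => Or.inl (by simp)⟩
  · rintro x ⟨hx1, hx2⟩ y ⟨hy1, hy2⟩
    refine ⟨mul_comm' hx1 hy1, fun q hq => ?_⟩
    have hqz := h.comm q hq
    rcases hx2 q hq with k | k <;> rcases hy2 q hq with k' | k'
    · left; rw [← mul_assoc, k, mul_assoc, k', mul_assoc]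
    · right
      calc q * (x * y) = x * (q * y) := by rw [← mul_assoc, k, mul_assoc]
        _ = x * z * y * q := by rw [k']; group
        _ = z * (x * y) * q := by rw [hx1]; group
    · right
      calc q * (x * y) = z * x * (q * y) := by rw [← mul_assoc, k, mul_assoc]
        _ = z * (x * y) * q := by rw [k']; group
    · left
      calc q * (x * y) = z * x * (q * y) := by rw [← mul_assoc, k, mul_assoc]
        _ = z * (x * z) * y * q := by rw [k']; group
        _ = z * z * (x * y) * q := by rw [hx1]; group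
        _ = x * y * q := by rw [hzz, one_mul]
  · rintro x ⟨hx1, hx2⟩
    have hxi := inv_comm hx1
    refine ⟨hxi, fun q hq => ?_⟩
    rcases hx2 q hq with k | k
    · left
      rw [eq_inv_mul_iff_mul_eq, ← mul_assoc, ← k, mul_assoc, mul_inv_cancel, mul_one]
    · right
      have : x * q = z * q * x := by
        calc x * q = z * z * (x * q) := by rw [hzz, one_mul]
          _ = z * (z * x * q) := by group
          _ = z * q * x := by rw [← k]; group
      calc q * x⁻¹ = x⁻¹ * (x * q) * x⁻¹ := by group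
        _ = x⁻¹ * z * q := by rw [this]; group
        _ = z * x⁻¹ * q := by rw [hxi]
  · rintro x ⟨hx1, hx2⟩
    have hxx : x * x ∈ OO z := by
      refine hch z hzz h.z1 (x * x) (mul_comm' hx1 hx1) fun q hq => ?_
      rcases hx2 q hq with k | k
      · rw [mul_assoc, ← k, ← mul_assoc, ← k, mul_assoc]
      · symm
        calc q * (x * x) = q * x * x := by group
          _ = z * x * q * x := by rw [k]
          _ = z * x * (q * x) := by group
          _ = z * (x * z) * x * q := by rw [k]; group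
          _ = z * z * (x * x) * q := by rw [hx1]; group
          _ = x * x * q := by rw [hzz, one_mul]
    obtain ⟨k, hk⟩ := pow_of_mem hxx
    refine ⟨k + 1, ?_⟩
    rw [pow_succ', pow_mul, pow_two]; exact hk
  · rintro x ⟨hx1, _⟩; exact hx1
  · rintro g hg x ⟨hx1, hx2⟩
    refine ⟨mul_comm' (mul_comm' hg hx1) (inv_comm hg), fun q hq => ?_⟩
    have h1 : g⁻¹ * q * g ∈ OO z := by
      have := oo_conj (inv_comm hg) hq
      rwa [inv_inv] at this
    rcases hx2 _ h1 with k | k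
    · left
      calc q * (g * x * g⁻¹) = g * (g⁻¹ * q * g * x) * g⁻¹ := by group
        _ = g * x * g⁻¹ * q := by rw [k]; group
    · right
      calc q * (g * x * g⁻¹) = g * (g⁻¹ * q * g * x) * g⁻¹ := by group
        _ = g * z * x * g⁻¹ * q := by rw [k]; group
        _ = z * (g * x * g⁻¹) * q := by rw [hg]; group
  · exact ⟨hs, fun q hqO => (eqv s q).1 (hq q hqO)⟩

/-- two involutions whose product has order dividing `4` generate a `2`-group -/
theorem isPGroup_pair {H : Type*} [Group H] {t s : H} (ht : t * t = 1) (hs : s * s = 1)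
    (h : (t * s) ^ 4 = 1) : IsPGroup 2 (Subgroup.closure {t, s} : Subgroup H) := by
  have htinv : t⁻¹ = t := inv_eq_of_mul_eq_one_left ht
  have hsinv : s⁻¹ = s := inv_eq_of_mul_eq_one_left hs
  have hconj : t * (t * s) * t⁻¹ = (t * s)⁻¹ := by
    rw [mul_inv_rev, hsinv, htinv]
    calc t * (t * s) * t = (t * t) * s * t := by group
      _ = s * t := by rw [ht, one_mul]
  have h1 : IsPGroup 2 (zpowers (t * s)) := by
    rintro ⟨x, hx⟩
    obtain ⟨k, rfl⟩ := mem_zpowers_iff.mp hx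
    refine ⟨2, Subtype.ext ?_⟩
    change ((t * s) ^ k) ^ (2 ^ 2) = 1
    have : ((t * s) ^ k) ^ (2 ^ 2) = ((t * s) ^ 4) ^ k := by
      rw [← zpow_natCast, ← zpow_mul, ← zpow_natCast, ← zpow_mul, mul_comm]
      norm_num
    rw [this, h, one_zpow]
  have h2 : IsPGroup 2 (zpowers t) := by
    rintro ⟨x, hx⟩
    obtain ⟨k, rfl⟩ := mem_zpowers_iff.mp hx
    refine ⟨1, Subtype.ext ?_⟩
    change (t ^ k) ^ (2 ^ 1) = 1
    rw [pow_one, ← zpow_natCast, ← zpow_mul, mul_comm, zpow_mul, zpow_natCast, pow_two, ht,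
      one_zpow]
  have hn : zpowers t ≤ normalizer (zpowers (t * s) : Set H) := by
    rw [zpowers_le]
    refine mem_normalizer_of ?_ ?_
    · intro m hm
      obtain ⟨k, rfl⟩ := mem_zpowers_iff.mp hm
      rw [← conj_zpow, hconj]
      exact zpow_mem (inv_mem (mem_zpowers _)) k
    · intro m hm
      obtain ⟨k, rfl⟩ := mem_zpowers_iff.mp hm
      have e : t⁻¹ * (t * s) ^ k * t = t * (t * s) ^ k * t⁻¹ := by rw [htinv]
      rw [e, ← conj_zpow, hconj]
      exact zpow_mem (inv_mem (mem_zpowers _)) k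
  have h3 := IsPGroup.to_sup_of_normal_right' h2 h1 hn
  refine h3.to_le ?_
  rw [closure_le]
  rintro x (rfl | hx)
  · exact mem_sup_left (mem_zpowers _)
  · rw [Set.mem_singleton_iff] at hx
    subst hx
    have e : t * (t * x) = x := by rw [← mul_assoc, ht, one_mul]
    have h5 : t * (t * x) ∈ zpowers t ⊔ zpowers (t * x) :=
      mul_mem (mem_sup_left (mem_zpowers _)) (mem_sup_right (mem_zpowers _))
    rw [SetLike.mem_coe]
    rwa [e] at h5

/-- `hB` (Baer–Suzuki in `C(z)`) -/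
theorem hB [Finite G] : ∀ t : G, t * z = z * t → t * t = 1 →
    (∀ g, g * z = z * g → (t * (g * t * g⁻¹)) ^ 4 = 1) → t ∈ OO z := by
  intro t htz htt hg
  have key : (⟨t, mem_c.2 htz⟩ : centralizer ({z} : Set G)) ∈
      Cfsg.pCore 2 (centralizer ({z} : Set G)) := by
    refine Cfsg.Agent.Involutions.BaerSuzuki.mem_pCore_of_conj_pairs _ fun g => ?_
    refine isPGroup_pair (Subtype.ext htt) ?_ ?_
    · apply Subtype.ext
      change (g : G) * t * (g : G)⁻¹ * (g * t * (g : G)⁻¹) = 1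
      calc (g : G) * t * (g : G)⁻¹ * (g * t * (g : G)⁻¹) = g * (t * t) * (g : G)⁻¹ := by group
        _ = 1 := by rw [htt]; group
    · apply Subtype.ext
      exact hg g (mem_c.1 g.2)
  exact mem_map.mpr ⟨_, key, rfl⟩

/-- `|Z(O z)| = 4` and the remaining fields of `Lin` -/
theorem lin_of [Finite G] (h : Cfg OO z a) (hch : Ch G) (hd : Dp OO z d) (hdq : d * d = 1)
    (h1 : d ≠ 1) (h2 : d ≠ z) : Lin OO z a d := by
  have hzz := h.zz
  have hdz := h.comm d hd.1
  have four : ∀ x, Dp OO z x → x = 1 ∨ x = z ∨ x = d ∨ x = z * d := by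
    intro x hx
    rcases Four.four h (hC h hch) hB hx hd with (k | k) | (k | k) | (k | k)
    · exact Or.inl k
    · exact Or.inr (Or.inl k)
    · exact absurd k h1
    · exact absurd k h2
    · right; right; left
      calc x = x * d * d := by rw [mul_assoc, hdq, mul_one]
        _ = d := by rw [k, one_mul]
    · right; right; right
      calc x = x * d * d := by rw [mul_assoc, hdq, mul_one]
        _ = z * d := by rw [k]
  have hsq : ∀ x, Dp OO z x → x * x = 1 := by
    intro x hx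
    rcases four x hx with k | k | k | k <;> rw [k]
    · simp
    · exact hzz
    · exact hdq
    · calc z * d * (z * d) = z * (d * z) * d := by group
        _ = z * z * (d * d) := by rw [hdz]; group
        _ = 1 := by rw [hzz, hdq, one_mul]
  have mov : ∀ x, x * z = z * x → ∀ y, Dp OO z y → x * y * x⁻¹ = y ∨ x * y * x⁻¹ = z * y := by
    intro x hxz y hy
    have hxd : x * d * x⁻¹ = d ∨ x * d * x⁻¹ = z * d := by
      rcases four _ (h.eqv.dp_conj hd hxz) with k | k | k | k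
      · exfalso; apply h1
        have : x * d * x⁻¹ = x * 1 * x⁻¹ := by rw [k]; group
        exact mul_left_cancel (mul_right_cancel this)
      · exfalso; apply h2
        have : x * d * x⁻¹ = x * z * x⁻¹ := by rw [k, hxz]; group
        exact mul_left_cancel (mul_right_cancel this)
      · exact Or.inl k
      · exact Or.inr k
    have hxz' : x * z * x⁻¹ = z := by rw [hxz]; group
    rcases four y hy with k | k | k | k <;> rw [k]
    · left; group
    · left; exact hxz'
    · exact hxd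
    · have e : x * (z * d) * x⁻¹ = x * z * x⁻¹ * (x * d * x⁻¹) := by group
      rw [e, hxz']
      rcases hxd with k' | k' <;> rw [k']
      · left; rfl
      · right; rfl
  refine ⟨h, hd, hdq, h1, h2, four, ?_⟩
  intro s hs hq
  refine mem_of_set (K := {s | s * z = z * s ∧ ∀ q ∈ OO z, Dp OO z (q * s * q⁻¹ * s⁻¹)})
    ?_ ?_ ?_ ?_ ?_ ?_ ⟨hs, hq⟩
  · refine ⟨by simp, fun q _ => ?_⟩
    have := dp_mul h.dz (dp_inv h.dz)
    rw [mul_inv_cancel] at this
    have e : q * 1 * q⁻¹ * (1 : G)⁻¹ = 1 := by group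
    rw [e]; exact this
  · rintro x ⟨hx1, hx2⟩ y ⟨hy1, hy2⟩
    refine ⟨mul_comm' hx1 hy1, fun q hqO => ?_⟩
    have e : q * (x * y) * q⁻¹ * (x * y)⁻¹ =
        q * x * q⁻¹ * x⁻¹ * (x * (q * y * q⁻¹ * y⁻¹) * x⁻¹) := by group
    rw [e]
    exact dp_mul (hx2 q hqO) (h.eqv.dp_conj (hy2 q hqO) hx1)
  · rintro x ⟨hx1, hx2⟩
    refine ⟨inv_comm hx1, fun q hqO => ?_⟩
    have e : q * x⁻¹ * q⁻¹ * x⁻¹⁻¹ = x⁻¹ * (q * x * q⁻¹ * x⁻¹)⁻¹ * x⁻¹⁻¹ := by group
    rw [e]
    exact h.eqv.dp_conj (dp_inv (hx2 q hqO)) (inv_comm hx1)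
  · rintro x ⟨hx1, hx2⟩
    have hxx : x * x ∈ OO z := by
      refine hC h hch _ (mul_comm' hx1 hx1) fun q hqO => ?_
      set y := q * x * q⁻¹ * x⁻¹ with hy
      have hyD := hx2 q hqO
      have e : q * (x * x) * q⁻¹ * (x * x)⁻¹ = y * (x * y * x⁻¹) := by rw [hy]; group
      have hyz := h.comm y hyD.1
      rw [e]
      rcases mov x hx1 y hyD with k | k <;> rw [k]
      · left; exact hsq y hyD
      · right; rw [← mul_assoc, hyz, mul_assoc, hsq y hyD, mul_one]
    obtain ⟨k, hk⟩ := pow_of_mem hxx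
    refine ⟨k + 1, ?_⟩
    rw [pow_succ', pow_mul, pow_two]; exact hk
  · rintro x ⟨hx1, _⟩; exact hx1
  · rintro g hg x ⟨hx1, hx2⟩
    refine ⟨mul_comm' (mul_comm' hg hx1) (inv_comm hg), fun q hqO => ?_⟩
    have h3 : g⁻¹ * q * g ∈ OO z := by
      have := oo_conj (inv_comm hg) hqO
      rwa [inv_inv] at this
    have e : q * (g * x * g⁻¹) * q⁻¹ * (g * x * g⁻¹)⁻¹ =
        g * (g⁻¹ * q * g * x * (g⁻¹ * q * g)⁻¹ * x⁻¹) * g⁻¹ := by group
    rw [e]
    exact h.eqv.dp_conj (hx2 _ h3) hg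

/-- `O₂(L)` is normalised by every element normalising `L` -/
theorem o2_normal {L : Subgroup G} {g : G} (hg : L.map (MulAut.conj g).toMonoidHom = L) {x : G}
    (hx : x ∈ o2 L) : g * x * g⁻¹ ∈ o2 L := by
  have h1 := Cfsg.Agent.ZN.o2_map (MulAut.conj g).toMonoidHom (MulAut.conj g).injective L
  rw [hg] at h1
  rw [h1]
  exact ⟨x, hx, rfl⟩

theorem map_conj_eq {L : Subgroup G} {g : G} (h1 : ∀ x ∈ L, g * x * g⁻¹ ∈ L)
    (h2 : ∀ x ∈ L, g⁻¹ * x * g ∈ L) : L.map (MulAut.conj g).toMonoidHom = L := by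
  ext x
  constructor
  · rintro ⟨y, hy, rfl⟩
    exact h1 y hy
  · intro hx
    refine ⟨g⁻¹ * x * g, h2 x hx, ?_⟩
    change g * (g⁻¹ * x * g) * g⁻¹ = x
    group

end Cfsg.Agent.Omega.FFTwoA.OTwo

end

section


/-!
# FF-2a (7): `Z(O₂(C(z)))` has no involution outside `⟨z⟩`

bb OMEGA #12472 (helper9), with `|Z(O z)| ≤ 4` (#12111, helper146).
-/

set_option autoImplicit false

namespace Cfsg.Agent.Omega.FFTwoA.Final

open Subgroup Cfsg.Agent.ZN Cfsg.Agent.ZN.Block
open Cfsg.Agent.Omega.FFTwoA.Main Cfsg.Agent.Omega.FFTwoA.Four Cfsg.Agent.Omega.FFTwoA.Line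
open Cfsg.Agent.Omega.FFTwoA.OTwo Cfsg.Agent.Omega.FFTwoA.Cases

universe u

variable {G : Type u} [Group G] {z a d : G}

/-- `C(z) ∩ C(d)` -/
def CC (z d : G) : Subgroup G := centralizer ({z} : Set G) ⊓ centralizer ({d} : Set G)

theorem mem_cc {z d x : G} : x ∈ CC z d ↔ x * z = z * x ∧ x * d = d * x := by
  rw [CC, mem_inf, mem_c, mem_c]

/-- `C(z)` normalises `C(z) ∩ C(d)` -/
theorem cc_conj (h : Lin OO z a d) {g : G} (hg : g * z = z * g) {x : G} (hx : x ∈ CC z d) :
    g * x * g⁻¹ ∈ CC z d := by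
  rw [mem_cc] at hx ⊢
  obtain ⟨h1, h2⟩ := hx
  refine ⟨mul_comm' (mul_comm' hg h1) (inv_comm hg), ?_⟩
  have hgi := inv_comm hg
  have hgd : g⁻¹ * d * g = d ∨ g⁻¹ * d * g = z * d := by
    have := h.movD hgi
    rwa [inv_inv] at this
  have e : g * x * g⁻¹ * d = g * (x * (g⁻¹ * d * g)) * g⁻¹ := by group
  have e' : d * (g * x * g⁻¹) = g * ((g⁻¹ * d * g) * x) * g⁻¹ := by group
  rw [e, e']
  rcases hgd with k | k <;> rw [k]
  · rw [h2]
  · have : x * (z * d) = z * d * x := by rw [← mul_assoc, h1, mul_assoc, h2, mul_assoc]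
    rw [this]

theorem cc_map (h : Lin OO z a d) {g : G} (hg : g * z = z * g) :
    (CC z d).map (MulAut.conj g).toMonoidHom = CC z d := by
  refine map_conj_eq (fun x hx => cc_conj h hg hx) fun x hx => ?_
  have := cc_conj h (inv_comm hg) hx
  rwa [inv_inv] at this

theorem o2_cc_le (h : Lin OO z a d) : o2 (CC z d) ≤ OO z := by
  refine le_oo (Block.o2_isPGroup _) (fun x hx => (mem_cc.1 (Block.o2_le _ hx)).1) ?_
  intro g hg x hx
  exact o2_normal (cc_map h hg) hx

/-- the case `d ~ z` -/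
theorem not_conj [Finite G] (h : Lin OO z a d) (g : G) (hg : g * z * g⁻¹ = d) : False := by
  obtain ⟨u, hu, huz, hud⟩ := h.exd
  have hun : ¬ u * d = d * u := by
    intro k
    rw [hud] at k
    have : z * (d * u) = d * u := by rw [← mul_assoc]; exact k
    exact h.z1 (mul_eq_right.1 this)
  -- index of `CC z d` in `C(z)` is 2
  have hle1 : CC z d ≤ centralizer ({z} : Set G) := inf_le_left
  have hle2 : CC z d ≤ centralizer ({d} : Set G) := inf_le_right
  have hi : (CC z d).relIndex (centralizer ({z} : Set G)) = 2 := by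
    rw [Subgroup.relIndex, Subgroup.index_eq_two_iff]
    refine ⟨⟨u, mem_c.2 huz⟩, ?_⟩
    rintro ⟨x, hx⟩
    rw [mem_c] at hx
    rw [mem_subgroupOf, mem_subgroupOf]
    change Xor (x * u ∈ CC z d) (x ∈ CC z d)
    rw [mem_cc, mem_cc]
    have hxd := h.movD hx
    have huz' : x * u * z = z * (x * u) := mul_comm' hx huz
    rcases hxd with k | k <;> rw [mul_inv_eq_iff_eq_mul] at k
    · right
      refine ⟨⟨hx, k⟩, ?_⟩
      rintro ⟨_, k2⟩
      apply hun
      have : x * (u * d) = x * (d * u) := by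
        calc x * (u * d) = x * u * d := by group
          _ = d * x * u := by rw [k2]; group
          _ = x * (d * u) := by rw [← k]; group
      exact mul_left_cancel this
    · left
      refine ⟨⟨huz', ?_⟩, ?_⟩
      · calc x * u * d = x * (u * d) := by group
          _ = x * z * d * u := by rw [hud]; group
          _ = z * (x * d) * u := by rw [hx]; group
          _ = z * z * d * (x * u) := by rw [k]; group
          _ = d * (x * u) := by rw [h.zz, one_mul]
      · rintro ⟨_, k2⟩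
        rw [k2] at k
        have : z * (d * x) = d * x := by rw [← mul_assoc]; exact k.symm
        exact h.z1 (mul_eq_right.1 this)
  have hcard : Nat.card (centralizer ({z} : Set G)) = Nat.card (centralizer ({d} : Set G)) := by
    have : (centralizer ({z} : Set G)).map (MulAut.conj g).toMonoidHom =
        centralizer ({d} : Set G) := by
      ext x
      constructor
      · rintro ⟨y, hy, rfl⟩
        rw [SetLike.mem_coe, mem_c] at hy
        rw [mem_c]
        change g * y * g⁻¹ * d = d * (g * y * g⁻¹)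
        rw [← hg]
        calc g * y * g⁻¹ * (g * z * g⁻¹) = g * (y * z) * g⁻¹ := by group
          _ = g * z * g⁻¹ * (g * y * g⁻¹) := by rw [hy]; group
      · intro hx
        rw [mem_c] at hx
        refine ⟨g⁻¹ * x * g, ?_, ?_⟩
        · rw [SetLike.mem_coe, mem_c]
          rw [← hg] at hx
          calc g⁻¹ * x * g * z = g⁻¹ * (x * (g * z * g⁻¹)) * g := by group
            _ = z * (g⁻¹ * x * g) := by rw [hx]; group
        · change g * (g⁻¹ * x * g) * g⁻¹ = x
          group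
    rw [← this]
    exact (Nat.card_congr (Subgroup.equivMapOfInjective _ _ (MulAut.conj g).injective).toEquiv)
  have hi2 : (CC z d).relIndex (centralizer ({d} : Set G)) = 2 := by
    have e1 := card_mul_relIndex' hle1
    have e2 := card_mul_relIndex' hle2
    rw [hi] at e1
    rw [← hcard, ← e1] at e2
    exact Nat.eq_of_mul_eq_mul_left Nat.card_pos e2
  -- `CC z d` is normal in `C(d)`
  have hn : ((CC z d).subgroupOf (centralizer ({d} : Set G))).Normal :=
    Subgroup.normal_of_index_eq_two hi2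
  have hconj : ∀ c, c * d = d * c → ∀ x ∈ CC z d, c * x * c⁻¹ ∈ CC z d := by
    intro c hc x hx
    have := hn.conj_mem ⟨x, hle2 hx⟩ (mem_subgroupOf.2 hx) ⟨c, mem_c.2 hc⟩
    exact mem_subgroupOf.1 this
  have ho2 : OO z ≤ o2 (CC z d) := by
    refine Block.le_o2 (isP z) ?_ ?_
    · intro x hx
      rw [mem_cc]
      exact ⟨oo_comm hx, ((h.toCfg.dp_iff.1 h.dD).2 x hx).symm⟩
    · exact le_normalizer_of_forall fun l hl m hm => oo_conj (mem_cc.1 hl).1 hm
  have hO : ∀ c, c * d = d * c → ∀ x ∈ OO z, c * x * c⁻¹ ∈ OO z := by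
    intro c hc x hx
    apply o2_cc_le h
    refine o2_normal (map_conj_eq (hconj c hc) ?_) (ho2 hx)
    intro y hy
    have := hconj c⁻¹ (inv_comm hc) y hy
    rwa [inv_inv] at this
  -- so `C(d) ≤ C(z)`
  obtain ⟨w, hw, hwa, _, _⟩ := h.w0
  rw [MulAut.conj_apply] at hwa
  have hz : w * a * w⁻¹ * a⁻¹ = z := by rw [hwa]; group
  have hsub : ∀ c, c * d = d * c → c * z = z * c := by
    intro c hc
    have h1 := h.toCfg.comm_mem (hO c hc w hw.1) (hO c hc a h.aO)
    have e : c * w * c⁻¹ * (c * a * c⁻¹) * (c * w * c⁻¹)⁻¹ * (c * a * c⁻¹)⁻¹ =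
        c * (w * a * w⁻¹ * a⁻¹) * c⁻¹ := by group
    rw [e, hz] at h1
    rcases h1 with k | k
    · exfalso
      apply h.z1
      have : c * z * c⁻¹ = c * 1 * c⁻¹ := by rw [k]; group
      exact mul_left_cancel (mul_right_cancel this)
    · rw [mul_inv_eq_iff_eq_mul] at k; exact k
  have : (CC z d).relIndex (centralizer ({d} : Set G)) = 1 := by
    rw [Subgroup.relIndex_eq_one]
    intro x hx
    rw [mem_c] at hx
    exact mem_cc.2 ⟨hsub x hx, hx⟩
  rw [hi2] at this
  exact absurd this (by norm_num)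

/-- `O₂(C(d)) ≤ O₂(C(z))` if `O₂(C(d)) ≤ C(z)` -/
theorem oo_le (h : Lin OO z a d) (hod : ∀ x ∈ OO d, x * z = z * x) : OO d ≤ OO z := by
  refine le_trans (Block.le_o2 (isP d) ?_ ?_) (o2_cc_le h)
  · intro x hx
    exact mem_cc.2 ⟨hod x hx, oo_comm hx⟩
  · exact le_normalizer_of_forall fun l hl m hm => oo_conj (mem_cc.1 hl).2 hm

/-- the case `d ≁ z` -/
theorem conj_case [Finite G] (h : Lin OO z a d) (hch : Ch G)
    (hna : ∃ m, m * z = z * m ∧ ¬ m * a * m⁻¹ * a = a * (m * a * m⁻¹))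
    (hod : ∀ x ∈ OO d, x * z = z * x) : False := by
  have hle := oo_le h hod
  have hdz : d * z = z * d := h.comm d h.dD.1
  have hzO : z ∈ OO d := by
    refine hch d h.dq h.d1 z hdz.symm fun q hq => (hod q hq).symm
  refine b_one_false h hna ?_
  by_contra hcon
  push Not at hcon
  obtain ⟨c, hcd, hcz⟩ := hcon
  apply hcz
  -- `VC = Z(OO d)`
  set VC : Subgroup G := OO d ⊓ centralizer (OO d : Set G) with hVC
  have mV : ∀ x, x ∈ VC ↔ x ∈ OO d ∧ ∀ y ∈ OO d, y * x = x * y := by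
    intro x
    rw [hVC, mem_inf, mem_centralizer_iff]
    exact Iff.rfl
  have hzV : z ∈ VC := (mV z).2 ⟨hzO, fun y hy => hod y hy⟩
  have hVn : ∀ c, c * d = d * c → ∀ x ∈ VC, c * x * c⁻¹ ∈ VC := by
    intro c hc x hx
    rw [mV] at hx ⊢
    refine ⟨oo_conj hc hx.1, fun y hy => ?_⟩
    have h1 : c⁻¹ * y * c ∈ OO d := by
      have := oo_conj (inv_comm hc) hy
      rwa [inv_inv] at this
    have h2 := hx.2 _ h1
    calc y * (c * x * c⁻¹) = c * (c⁻¹ * y * c * x) * c⁻¹ := by group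
      _ = c * x * c⁻¹ * y := by rw [h2]; group
  have hcomm := fun {v : G} (hv : v ∈ VC) {m : G} (hm : m * z = z * m) =>
    b_two_comm h hna VC (fun x hx y hy => ((mV y).1 hy).2 x ((mV x).1 hx).1) hVn hzV
      (fun x hx => hle ((mV x).1 hx).1) hv hm
  -- `KC = C(d) ∩ C(VC)`
  set KC : Subgroup G := centralizer ({d} : Set G) ⊓ centralizer (VC : Set G) with hKC
  have mK : ∀ x, x ∈ KC ↔ x * d = d * x ∧ ∀ y ∈ VC, y * x = x * y := by
    intro x
    rw [hKC, mem_inf, mem_c, mem_centralizer_iff]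
    exact Iff.rfl
  have hKn : ∀ c, c * d = d * c → ∀ x ∈ KC, c * x * c⁻¹ ∈ KC := by
    intro c hc x hx
    rw [mK] at hx ⊢
    refine ⟨mul_comm' (mul_comm' hc hx.1) (inv_comm hc), fun y hy => ?_⟩
    have h1 : c⁻¹ * y * c ∈ VC := by
      have := hVn c⁻¹ (inv_comm hc) y hy
      rwa [inv_inv] at this
    have h2 := hx.2 _ h1
    calc y * (c * x * c⁻¹) = c * (c⁻¹ * y * c * x) * c⁻¹ := by group
      _ = c * x * c⁻¹ * y := by rw [h2]; group
  have hKz : ∀ x ∈ KC, x * z = z * x := fun x hx => (((mK x).1 hx).2 z hzV).symm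
  have hO1 : OO z ⊓ KC ≤ o2 KC := by
    refine Block.le_o2 ((isP z).to_le inf_le_left) inf_le_right ?_
    refine le_normalizer_of_forall fun l hl m hm => ?_
    have hm' := mem_inf.1 hm
    exact mem_inf.2 ⟨oo_conj (hKz l hl) hm'.1, mul_mem (mul_mem hl hm'.2) (inv_mem hl)⟩
  have hO2 : o2 KC ≤ OO d := by
    refine le_oo (Block.o2_isPGroup _) (fun x hx => ((mK x).1 (Block.o2_le _ hx)).1) ?_
    intro g hg x hx
    refine o2_normal (map_conj_eq (hKn g hg) ?_) hx
    intro y hy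
    have := hKn g⁻¹ (inv_comm hg) y hy
    rwa [inv_inv] at this
  have haO : ∀ m, m * z = z * m → m * a * m⁻¹ ∈ OO d := by
    intro m hm
    apply hO2
    apply hO1
    have h1 : m * a * m⁻¹ ∈ OO z := oo_conj hm h.aO
    refine ⟨h1, (mK _).2 ⟨((h.toCfg.dp_iff.1 h.dD).2 _ h1).symm, fun y hy => hcomm hy hm⟩⟩
  obtain ⟨m, hm, hmn⟩ := hna
  have ha1 := haO m hm
  have ha2 := haO 1 (by simp)
  have e1 : (1 : G) * a * (1 : G)⁻¹ = a := by group
  rw [e1] at ha2
  have hci := inv_comm hcd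
  have k1 := h.toCfg.comm_mem (hle ha1) (hle ha2)
  have k2 := h.toCfg.comm_mem (hle (oo_conj hci ha1)) (hle (oo_conj hci ha2))
  have e2 : c⁻¹ * (m * a * m⁻¹) * c⁻¹⁻¹ * (c⁻¹ * a * c⁻¹⁻¹) * (c⁻¹ * (m * a * m⁻¹) * c⁻¹⁻¹)⁻¹ *
      (c⁻¹ * a * c⁻¹⁻¹)⁻¹ = c⁻¹ * (m * a * m⁻¹ * a * (m * a * m⁻¹)⁻¹ * a⁻¹) * c := by group
  rw [e2] at k2
  have k3 : m * a * m⁻¹ * a * (m * a * m⁻¹)⁻¹ * a⁻¹ = z := by
    rcases k1 with k | k
    · exfalso
      apply hmn
      rw [mul_inv_eq_one, mul_inv_eq_iff_eq_mul] at k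
      exact k
    · exact k
  rw [k3] at k2
  rcases k2 with k | k
  · exfalso
    apply h.z1
    have : c⁻¹ * z * c = c⁻¹ * 1 * c := by rw [k]; group
    exact mul_left_cancel (mul_right_cancel this)
  · calc c * z = c * (c⁻¹ * z * c) := by rw [k]
      _ = z * c := by group

end Cfsg.Agent.Omega.FFTwoA.Final

end

section


set_option autoImplicit false

namespace Cfsg.Agent.Omega.FFTwoA.SylA

open Subgroup Cfsg.Agent.ZN Cfsg.Agent.ZN.Block
open Cfsg.Agent.Omega.FFTwoA.OTwo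

universe u

variable {G : Type u} [Group G]

theorem od_le [Finite G] {z d : G} (S : Sylow 2 G)
    (hS : (S : Subgroup G) ≤ centralizer ({z} : Set G))
    (hZ : ∀ x ∈ (S : Subgroup G), (∀ y ∈ (S : Subgroup G), x * y = y * x) → x * x = 1 →
      x = 1 ∨ x = z) (hdq : d * d = 1) (hd1 : d ≠ 1)
    (hmov : ∀ u, u * z = z * u → u * d * u⁻¹ = d ∨ u * d * u⁻¹ = z * d)
    (hne : ∀ g, g * z * g⁻¹ ≠ d) : OO d ≤ centralizer ({z} : Set G) := by
  classical
  have : Fact (Nat.Prime 2) := ⟨Nat.prime_two⟩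
  by_contra hcon
  set T0 : Subgroup G := (S : Subgroup G) ⊓ centralizer ({d} : Set G) with hT0
  have hT0S : T0 ≤ (S : Subgroup G) := inf_le_left
  have hT0d : T0 ≤ centralizer ({d} : Set G) := inf_le_right
  have mT : ∀ x, x ∈ T0 ↔ x ∈ (S : Subgroup G) ∧ x * d = d * x := by
    intro x; rw [hT0, mem_inf, mem_c]
  have hcard : Nat.card (S : Subgroup G) ≤ 2 * Nat.card T0 := by
    have e1 := card_mul_relIndex' hT0S
    by_cases hall : ∀ x ∈ (S : Subgroup G), x * d = d * x
    · have : T0 = (S : Subgroup G) := le_antisymm hT0S fun x hx => (mT x).2 ⟨hx, hall x hx⟩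
      rw [this]; omega
    · push Not at hall
      obtain ⟨u, hu, hun⟩ := hall
      have hi : T0.relIndex (S : Subgroup G) = 2 := by
        rw [Subgroup.relIndex, Subgroup.index_eq_two_iff]
        refine ⟨⟨u, hu⟩, ?_⟩
        rintro ⟨x, hx⟩
        rw [mem_subgroupOf, mem_subgroupOf]
        change Xor (x * u ∈ T0) (x ∈ T0)
        have huz := mem_c.1 (hS hu)
        have hxz := mem_c.1 (hS hx)
        have hud : u * d = z * d * u := by
          rcases hmov u huz with k | k <;> rw [mul_inv_eq_iff_eq_mul] at k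
          · exact absurd k hun
          · exact k
        have hz1 : z ≠ 1 := by
          rintro rfl
          apply hun; rw [hud]; simp
        rw [mT, mT]
        rcases hmov x hxz with k | k <;> rw [mul_inv_eq_iff_eq_mul] at k
        · right
          refine ⟨⟨hx, k⟩, ?_⟩
          rintro ⟨_, k2⟩
          apply hun
          have : x * (u * d) = x * (d * u) := by
            calc x * (u * d) = x * u * d := by group
              _ = d * x * u := by rw [k2]; group
              _ = x * (d * u) := by rw [← k]; group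
          exact mul_left_cancel this
        · left
          have hzz : z * z = 1 := by
            have h1 : x * (x * d * x⁻¹) * x⁻¹ = d ∨ x * (x * d * x⁻¹) * x⁻¹ = z * d := by
              have := hmov (x * x) (mul_comm' hxz hxz)
              have e : x * x * d * (x * x)⁻¹ = x * (x * d * x⁻¹) * x⁻¹ := by group
              rwa [e] at this
            have e2 : x * (x * d * x⁻¹) * x⁻¹ = z * z * d := by
              have e3 : x * d * x⁻¹ = z * d := by rw [k]; group
              rw [e3]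
              calc x * (z * d) * x⁻¹ = x * z * d * x⁻¹ := by group
                _ = z * (x * d * x⁻¹) := by rw [hxz]; group
                _ = z * z * d := by rw [e3]; group
            rw [e2] at h1
            rcases h1 with h1 | h1
            · exact mul_eq_right.1 h1
            · exfalso
              have h2 := mul_right_cancel h1
              exact hz1 (mul_eq_left.1 h2)
          refine ⟨⟨mul_mem hx hu, ?_⟩, ?_⟩
          · calc x * u * d = x * (u * d) := by group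
              _ = x * z * d * u := by rw [hud]; group
              _ = z * (x * d) * u := by rw [hxz]; group
              _ = z * z * d * (x * u) := by rw [k]; group
              _ = d * (x * u) := by rw [hzz, one_mul]
          · rintro ⟨_, k2⟩
            rw [k2] at k
            have : z * (d * x) = d * x := by rw [← mul_assoc]; exact k.symm
            exact hz1 (mul_eq_right.1 this)
      rw [hi] at e1; omega
  have hTp : IsPGroup 2 T0 := S.2.to_le hT0S
  have hTn : T0 ≤ normalizer (OO d : Set G) := le_normalizer_of_forall fun l hl m hm =>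
    oo_conj (mem_c.1 (hT0d hl)) hm
  have hP0 : IsPGroup 2 (T0 ⊔ OO d : Subgroup G) := IsPGroup.to_sup_of_normal_right' hTp (isP d) hTn
  have hP0c : (T0 ⊔ OO d : Subgroup G) ≤ centralizer ({d} : Set G) :=
    sup_le hT0d fun x hx => mem_c.2 (oo_comm hx)
  have hrel : T0.relIndex (T0 ⊔ OO d) ≠ 1 := by
    intro k
    rw [Subgroup.relIndex_eq_one] at k
    exact hcon ((le_sup_right.trans k).trans (hT0S.trans hS))
  have e1 := card_mul_relIndex' (le_sup_left : T0 ≤ T0 ⊔ OO d)
  have hrel0 : T0.relIndex (T0 ⊔ OO d) ≠ 0 := by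
    intro k
    rw [k, mul_zero] at e1
    exact Nat.card_pos.ne e1
  have hge : Nat.card (S : Subgroup G) ≤ Nat.card (T0 ⊔ OO d : Subgroup G) := by
    rw [← e1]
    have : 2 ≤ T0.relIndex (T0 ⊔ OO d) := by omega
    calc Nat.card (S : Subgroup G) ≤ 2 * Nat.card T0 := hcard
      _ = Nat.card T0 * 2 := mul_comm _ _
      _ ≤ _ := Nat.mul_le_mul_left _ this
  obtain ⟨Q, hQ⟩ := hP0.exists_le_sylow
  have hQc : Nat.card (Q : Subgroup G) = Nat.card (S : Subgroup G) := by
    rw [Q.card_eq_multiplicity, S.card_eq_multiplicity]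
  have hQe : (T0 ⊔ OO d : Subgroup G) = Q := Subgroup.eq_of_le_of_card_ge hQ (by rw [hQc]; exact hge)
  obtain ⟨g, hg⟩ := MulAction.exists_smul_eq G S Q
  have hmem : ∀ x, x ∈ (S : Subgroup G) → g * x * g⁻¹ ∈ (Q : Subgroup G) := by
    intro x hx
    rw [← hg]
    exact Subgroup.smul_mem_pointwise_smul x (MulAut.conj g) _ hx
  have hmem' : ∀ y, y ∈ (Q : Subgroup G) → g⁻¹ * y * g ∈ (S : Subgroup G) := by
    intro y hy
    rw [← hg] at hy
    obtain ⟨x, hx, rfl⟩ := hy
    change g⁻¹ * (g * x * g⁻¹) * g ∈ (S : Subgroup G)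
    have : g⁻¹ * (g * x * g⁻¹) * g = x := by group
    rw [this]; exact hx
  have hdQ : d ∈ (Q : Subgroup G) := by
    rw [← hQe]
    exact mem_sup_right (self_mem hdq)
  have hQd : ∀ y ∈ (Q : Subgroup G), y * d = d * y := by
    intro y hy
    rw [← hQe] at hy
    exact mem_c.1 (hP0c hy)
  have h3 : ∀ y ∈ (S : Subgroup G), g⁻¹ * d * g * y = y * (g⁻¹ * d * g) := by
    intro y hy
    have := hQd _ (hmem y hy)
    calc g⁻¹ * d * g * y = g⁻¹ * (d * (g * y * g⁻¹)) * g := by group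
      _ = y * (g⁻¹ * d * g) := by rw [← this]; group
  have h4 : g⁻¹ * d * g * (g⁻¹ * d * g) = 1 := by
    calc g⁻¹ * d * g * (g⁻¹ * d * g) = g⁻¹ * (d * d) * g := by group
      _ = 1 := by rw [hdq]; group
  rcases hZ (g⁻¹ * d * g) (hmem' d hdQ) h3 h4 with k | k
  · apply hd1
    calc d = g * (g⁻¹ * d * g) * g⁻¹ := by group
      _ = 1 := by rw [k]; group
  · apply hne g
    calc g * z * g⁻¹ = g * (g⁻¹ * d * g) * g⁻¹ := by rw [k]
      _ = d := by group

end Cfsg.Agent.Omega.FFTwoA.SylA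

end

section


/-!
# FF-2a (7): the final statement
-/

set_option autoImplicit false

namespace Cfsg.Agent.Omega.FFTwoA.Kill

open Subgroup Cfsg.Agent.ZN Cfsg.Agent.ZN.Block
open Cfsg.Agent.Omega.FFTwoA.Main Cfsg.Agent.Omega.FFTwoA.Line
open Cfsg.Agent.Omega.FFTwoA.OTwo Cfsg.Agent.Omega.FFTwoA.Final

universe u

variable {G : Type u} [Group G] {z a : G}

/-- **FF-2a (7)**: the only involution of `Z(O₂(C(z)))` is `z`. -/
theorem kill [Finite G] (h : Cfg OO z a) (S : Sylow 2 G)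
    (hS : (S : Subgroup G) ≤ centralizer ({z} : Set G))
    (hZ : ∀ x ∈ (S : Subgroup G), (∀ y ∈ (S : Subgroup G), x * y = y * x) → x * x = 1 →
      x = 1 ∨ x = z)
    (hch : Ch G) (hna : ∃ m, m * z = z * m ∧ ¬ m * a * m⁻¹ * a = a * (m * a * m⁻¹)) :
    ∀ d, Dp OO z d → d * d = 1 → d = 1 ∨ d = z := by
  intro d hd hdq
  by_contra hcon
  push Not at hcon
  obtain ⟨h1, h2⟩ := hcon
  have hl := lin_of h hch hd hdq h1 h2
  by_cases hc : ∃ g, g * z * g⁻¹ = d
  · obtain ⟨g, hg⟩ := hc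
    exact not_conj hl g hg
  · push Not at hc
    have hod := SylA.od_le S hS hZ hdq h1 (fun u hu => hl.movD hu) hc
    exact conj_case hl hch hna fun x hx => mem_c.1 (hod hx)

end Cfsg.Agent.Omega.FFTwoA.Kill

end
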